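import Mathlib
import Groth.Agent.SectionComplLib.Basic

/-!
# Completions along flat local maps without residue extension
-/

set_option autoImplicit false
set_option linter.style.haveILetI false

universe u

open IsLocalRing TensorProduct

noncomputable section

namespace Groth.Agent.CplStalkLib

/-- The completion of a local ring. -/
abbrev Cpl (S : Type u) [CommRing S] [IsLocalRing S] : Type u := AdicCompletion (maximalIdeal S) S

/-- A faithfully flat extension in which everything is congruent to an element of the base modulo the maximal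
ideal of the base has the same completion. -/
theorem exists_completionEquiv {R S : Type u} [CommRing R] [CommRing S] [IsLocalRing R] [IsLocalRing S]
    [Algebra R S] [Module.Flat R S] [IsLocalHom (algebraMap R S)]
    (hsurj : ∀ s : S, ∃ r : R, s - algebraMap R S r ∈ (maximalIdeal R).map (algebraMap R S)) :
    Nonempty (AdicCompletion (maximalIdeal R) R ≃+* AdicCompletion (maximalIdeal S) S) := by
  haveI : Module.FaithfullyFlat R S := Module.FaithfullyFlat.of_flat_of_isLocalHom
  have hmap : (maximalIdeal R).map (algebraMap R S) = maximalIdeal S := by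
    refine le_antisymm (Ideal.map_le_iff_le_comap.2 fun r hr => ?_) fun s hs => ?_
    · exact (mem_maximalIdeal _).2 fun hu => (mem_maximalIdeal _).1 hr (isUnit_of_map_unit _ _ hu)
    · obtain ⟨r, hr⟩ := hsurj s
      have hr' : r ∈ maximalIdeal R := (mem_maximalIdeal _).2 fun hu => by
        have h1 : algebraMap R S r ∈ maximalIdeal S := by
          have h2 : (maximalIdeal R).map (algebraMap R S) ≤ maximalIdeal S := Ideal.map_le_iff_le_comap.2 fun a ha =>
            (mem_maximalIdeal _).2 fun hu => (mem_maximalIdeal _).1 ha (isUnit_of_map_unit _ _ hu)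
          simpa using sub_mem hs (h2 hr)
        exact (mem_maximalIdeal _).1 h1 (hu.map _)
      simpa using add_mem hr (Ideal.mem_map_of_mem (algebraMap R S) hr')
  have hcomap : ∀ n, (maximalIdeal S ^ n).comap (algebraMap R S) = maximalIdeal R ^ n := fun n => by
    rw [← hmap, ← Ideal.map_pow, Ideal.comap_map_eq_self_of_faithfullyFlat]
  refine (SectionComplLib.exists_completionEquiv (maximalIdeal R) (maximalIdeal S) (algebraMap R S)
    (fun n => (hcomap n).ge) fun n => ⟨?_, ?_⟩).elim fun e _ => ⟨e⟩
  · exact Ideal.quotientMap_injective' (hcomap n).le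
  · have key : ∀ n (s : S), ∃ r : R, s - algebraMap R S r ∈ (maximalIdeal R ^ n).map (algebraMap R S) := by
      intro n
      induction n with
      | zero => exact fun s => ⟨0, by rw [pow_zero, Ideal.one_eq_top, Ideal.map_top]; trivial⟩
      | succ n ih =>
        intro s
        obtain ⟨r, hr⟩ := ih s
        have h2 : ∀ j ∈ (maximalIdeal R ^ n).map (algebraMap R S), ∃ a ∈ maximalIdeal R ^ n,
            j - algebraMap R S a ∈ (maximalIdeal R ^ (n + 1)).map (algebraMap R S) := by
          intro j hj
          refine Submodule.span_induction ?_ ⟨0, zero_mem _, by rw [map_zero, sub_zero]; exact zero_mem _⟩ ?_ ?_ hj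
          · rintro _ ⟨x, hx, rfl⟩
            exact ⟨x, hx, by rw [sub_self]; exact zero_mem _⟩
          · rintro x y - - ⟨u, hu, hu'⟩ ⟨v, hv, hv'⟩
            exact ⟨u + v, add_mem hu hv, by rw [map_add, add_sub_add_comm]; exact add_mem hu' hv'⟩
          · rintro t x - ⟨u, hu, hu'⟩
            obtain ⟨c, hc⟩ := hsurj t
            refine ⟨c * u, Ideal.mul_mem_left _ _ hu, ?_⟩
            have he : t • x - algebraMap R S (c * u) =
                t * (x - algebraMap R S u) + (t - algebraMap R S c) * algebraMap R S u := by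
              rw [smul_eq_mul, map_mul]; ring
            rw [he]
            refine add_mem (Ideal.mul_mem_left _ _ hu') ?_
            rw [pow_succ', Ideal.map_mul]
            exact Ideal.mul_mem_mul hc (Ideal.mem_map_of_mem _ hu)
        obtain ⟨a, -, ha'⟩ := h2 _ hr
        exact ⟨r + a, by rw [map_add, ← sub_sub]; exact ha'⟩
    intro q
    obtain ⟨s, rfl⟩ := Ideal.Quotient.mk_surjective q
    obtain ⟨r, hr⟩ := key n s
    refine ⟨Ideal.Quotient.mk _ r, ?_⟩
    rw [Ideal.quotientMap_mk, Ideal.Quotient.eq, ← neg_mem_iff, neg_sub]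
    rwa [Ideal.map_pow, hmap] at hr

theorem sub_eq_mul {S : Type u} [CommRing S] {s v d c u : S} (hv : v * d = 1) :
    s - c * v = v * ((s * u - c) - s * (u - d)) := by
  linear_combination (-s) * hv

variable {A C : Type u} [CommRing A] [CommRing C] [IsLocalRing A] [IsNoetherianRing A] [Algebra A C]

/-- The completion splits off the residue field in a tensor product. -/
theorem exists_sub_mem (t : AdicCompletion (maximalIdeal A) A ⊗[A] C) :
    ∃ c : C, t - (1 : AdicCompletion (maximalIdeal A) A) ⊗ₜ c ∈
      (maximalIdeal A).map (algebraMap A (AdicCompletion (maximalIdeal A) A ⊗[A] C)) := by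
  let H := AdicCompletion (maximalIdeal A) A
  have h1 : ∀ b : H, ∃ a : A, b - algebraMap A H a ∈ (maximalIdeal A).map (algebraMap A H) := fun b => by
    obtain ⟨a, ha⟩ := Ideal.Quotient.mk_surjective ((AdicCompletion.evalOneₐ (maximalIdeal A)) b)
    refine ⟨a, ?_⟩
    rw [← AdicCompletion.ker_evalOneₐ_eq_map (maximalIdeal A) (maximalIdeal A).fg_of_isNoetherianRing,
      RingHom.mem_ker, map_sub, sub_eq_zero]
    exact ha.symm.trans ((AdicCompletion.evalOneₐ (maximalIdeal A)).commutes a).symm
  induction t with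
  | zero => exact ⟨0, by rw [TensorProduct.tmul_zero, sub_zero]; exact zero_mem _⟩
  | tmul b c =>
    obtain ⟨a, ha⟩ := h1 b
    refine ⟨a • c, ?_⟩
    rw [TensorProduct.tmul_smul, TensorProduct.smul_tmul', ← TensorProduct.sub_tmul, ← Algebra.algebraMap_eq_smul_one]
    have h2 := Ideal.mem_map_of_mem (Algebra.TensorProduct.includeLeftRingHom : H →+* H ⊗[A] C) ha
    rw [Ideal.map_map] at h2
    have h3 : (b - algebraMap A H a) ⊗ₜ[A] c = ((b - algebraMap A H a) ⊗ₜ[A] (1 : C)) * ((1 : H) ⊗ₜ[A] c) := by
      rw [Algebra.TensorProduct.tmul_mul_tmul, mul_one, one_mul]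
    rw [h3]
    refine Ideal.mul_mem_right _ _ ?_
    rwa [show (algebraMap A (H ⊗[A] C)) = Algebra.TensorProduct.includeLeftRingHom.comp (algebraMap A H) from rfl]
  | add x y hx hy =>
    obtain ⟨u, hu⟩ := hx
    obtain ⟨v, hv⟩ := hy
    exact ⟨u + v, by rw [TensorProduct.tmul_add, add_sub_add_comm]; exact add_mem hu hv⟩

/-- Over a point of the closed fibre there is a point of the completed ring with the same completion. -/
theorem exists_prime_completionEquiv (P : Ideal C) [P.IsMaximal] (hP : P.comap (algebraMap A C) = maximalIdeal A)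
    (R : Type u) [CommRing R] [IsLocalRing R] [Algebra C R] [IsLocalization.AtPrime R P] :
    ∃ (Q : Ideal (AdicCompletion (maximalIdeal A) A ⊗[A] C)) (_ : Q.IsPrime),
      Nonempty (Cpl R ≃+* Cpl (Localization.AtPrime Q)) := by
  let H := AdicCompletion (maximalIdeal A) A
  let T := H ⊗[A] C
  let ι : C →+* T := (Algebra.TensorProduct.includeRight : C →ₐ[A] T).toRingHom
  letI : Algebra C T := ι.toAlgebra
  let M : Ideal T := (maximalIdeal A).map (algebraMap A T)
  have hM : M ≤ P.map ι := by
    refine Ideal.map_le_iff_le_comap.2 fun a ha => ?_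
    rw [Ideal.mem_comap, ← (Algebra.TensorProduct.includeRight : C →ₐ[A] T).commutes a]
    exact Ideal.mem_map_of_mem ι (show a ∈ P.comap (algebraMap A C) from hP.ge ha)
  let kA : H →ₐ[A] (C ⧸ P) :=
    (Ideal.Quotient.liftₐ (maximalIdeal A) (Algebra.ofId A (C ⧸ P)) (fun a ha => by
      show Ideal.Quotient.mk P (algebraMap A C a) = 0
      exact Ideal.Quotient.eq_zero_iff_mem.2 (show a ∈ P.comap (algebraMap A C) from hP.ge ha))).comp
        (AdicCompletion.evalOneₐ (maximalIdeal A))
  let π : T →ₐ[A] C ⧸ P := Algebra.TensorProduct.lift kA (Ideal.Quotient.mkₐ A P) fun x y => Commute.all _ _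
  have hπ : ∀ c, π (ι c) = Ideal.Quotient.mk P c := fun c => by
    show π ((1 : H) ⊗ₜ c) = _
    rw [Algebra.TensorProduct.lift_tmul, map_one, one_mul]
    rfl
  let Q : Ideal T := RingHom.ker π.toRingHom
  letI := Ideal.Quotient.field P
  haveI hQ : Q.IsMaximal := RingHom.ker_isMaximal_of_surjective π.toRingHom fun q => by
    obtain ⟨c, rfl⟩ := Ideal.Quotient.mk_surjective q
    exact ⟨ι c, hπ c⟩
  refine ⟨Q, hQ.isPrime, ?_⟩
  have hQP : ∀ c, ι c ∈ Q ↔ c ∈ P := fun c => by
    show π (ι c) = 0 ↔ _
    rw [hπ, Ideal.Quotient.eq_zero_iff_mem]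
  let S := Localization.AtPrime Q
  haveI : IsScalarTower C T S := inferInstance
  have hu : ∀ c : P.primeCompl, IsUnit (algebraMap C S c) := fun c =>
    IsLocalization.map_units S (⟨ι c.1, fun h => c.2 ((hQP _).1 h)⟩ : Q.primeCompl)
  let φ : R →+* S := IsLocalization.lift hu
  letI : Algebra R S := φ.toAlgebra
  haveI : IsScalarTower C R S := IsScalarTower.of_algebraMap_eq fun c => (IsLocalization.lift_eq hu c).symm
  haveI : Module.Flat C T := by
    haveI : Module.Flat A H := AdicCompletion.flat_of_isNoetherian _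
    let e₀ : T ≃ₐ[A] C ⊗[A] H := Algebra.TensorProduct.comm A H C
    let e : T ≃ₗ[C] C ⊗[A] H :=
      { e₀.toLinearEquiv with
        map_smul' := fun c t => by
          show e₀ (ι c * t) = c • e₀ t
          rw [map_mul, show e₀ (ι c) = c ⊗ₜ[A] (1 : H) from rfl]
          generalize e₀ t = x
          induction x with
          | zero => rw [mul_zero, smul_zero]
          | tmul c' h => rw [Algebra.TensorProduct.tmul_mul_tmul, one_mul]; rfl
          | add x y hx hy => rw [mul_add, smul_add, hx, hy] }
    exact Module.Flat.of_linearEquiv e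
  haveI : Module.Flat T S := IsLocalization.flat S Q.primeCompl
  haveI : Module.Flat C S := Module.Flat.trans C T S
  haveI : Module.Flat R S := (Module.flat_iff_of_isLocalization R P.primeCompl S).2 inferInstance
  haveI : IsLocalHom (algebraMap R S) := ⟨fun r hr => by
    obtain ⟨⟨c, d⟩, hcd⟩ := IsLocalization.surj P.primeCompl r
    have h1 : IsUnit (algebraMap C S c) := by
      rw [IsScalarTower.algebraMap_apply C R S, ← hcd, map_mul]
      exact hr.mul (by rw [← IsScalarTower.algebraMap_apply C R S]; exact hu d)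
    have h2 : c ∉ P := fun hc =>
      (IsLocalization.AtPrime.isUnit_to_map_iff S Q (ι c)).1 h1 ((hQP c).2 hc)
    exact isUnit_of_mul_isUnit_left (hcd ▸ IsLocalization.map_units R (⟨c, h2⟩ : P.primeCompl))⟩
  refine exists_completionEquiv fun s => ?_
  obtain ⟨⟨t, u⟩, htu⟩ := IsLocalization.surj Q.primeCompl s
  obtain ⟨c, hc⟩ := exists_sub_mem (A := A) t
  obtain ⟨d, hd⟩ := exists_sub_mem (A := A) u.1
  have hMQ : M ≤ Q := hM.trans (Ideal.map_le_iff_le_comap.2 fun c hc => (hQP c).2 hc)
  have hdP : d ∉ P := fun h => u.2 (by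
    have h' := add_mem (hMQ hd) ((hQP d).2 h)
    rwa [show ι d = (1 : H) ⊗ₜ[A] d from rfl, sub_add_cancel] at h')
  obtain ⟨v, hv⟩ : IsUnit (algebraMap C R d) := IsLocalization.map_units R (⟨d, hdP⟩ : P.primeCompl)
  refine ⟨algebraMap C R c * ↑v⁻¹, ?_⟩
  let N := (maximalIdeal R).map (algebraMap R S)
  have hN : ∀ m ∈ M, algebraMap T S m ∈ N := fun m hm => by
    have h1 : (P.map ι).map (algebraMap T S) ≤ N := by
      rw [Ideal.map_map, show (algebraMap T S).comp ι = (algebraMap R S).comp (algebraMap C R) from
        IsScalarTower.algebraMap_eq C R S, ← Ideal.map_map]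
      exact Ideal.map_mono (Ideal.map_le_iff_le_comap.2 fun p hp =>
        (mem_maximalIdeal _).2 fun hu => (IsLocalization.AtPrime.isUnit_to_map_iff R P p).1 hu hp)
    exact h1 (Ideal.mem_map_of_mem _ (hM hm))
  have hv' : algebraMap R S ↑v⁻¹ * algebraMap T S (ι d) = 1 := by
    rw [show algebraMap T S (ι d) = algebraMap R S (algebraMap C R d) from IsScalarTower.algebraMap_apply C R S d,
      ← hv, ← map_mul, Units.inv_mul, map_one]
  have e1 : s - algebraMap R S (algebraMap C R c * ↑v⁻¹) =
      algebraMap R S ↑v⁻¹ * (algebraMap T S (t - ι c) - s * algebraMap T S (u.1 - ι d)) := by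
    rw [map_mul, ← IsScalarTower.algebraMap_apply C R S, show algebraMap C S c = algebraMap T S (ι c) from rfl,
      map_sub, map_sub, ← htu]
    exact sub_eq_mul (S := Localization.AtPrime Q) (by exact hv')
  rw [e1]
  exact Ideal.mul_mem_left _ _ (sub_mem (hN _ hc) (Ideal.mul_mem_left _ _ (hN _ hd)))

end Groth.Agent.CplStalkLib
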