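import Groth.Agent.FormalAmpleLib.Kernel
import Groth.Prelude.Def_Curv2
import Mathlib

/-!
# Local rings of a base change with the same truncations
-/

set_option autoImplicit false
set_option backward.isDefEq.respectTransparency false
set_option linter.style.haveILetI false
set_option maxHeartbeats 800000

universe u

open CategoryTheory CategoryTheory.Limits AlgebraicGeometry IsLocalRing

noncomputable section

namespace Groth.Agent.CplStalkLib

variable {X Y T : Scheme.{u}} {B C D : CommRingCat.{u}} {α : B ⟶ C} {β : C ⟶ D}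
  {g : Y ⟶ X} {s : Y ⟶ Spec C} {f : X ⟶ Spec B} {i : T ⟶ Y} {t : T ⟶ Spec D}

/-- If `B ⟶ C ⟶ D` and `C ⟶ D` are surjective and their kernels die in the `n`-th powers, the local rings
agree modulo the `n`-th powers of their maximal ideals. -/
theorem bijective_quotientMap (hY : IsPullback g s f (Spec.map α)) (hT : IsPullback i t s (Spec.map β))
    (hαβ : Function.Surjective (α ≫ β)) (hβ : Function.Surjective β) (w : T) (n : ℕ)
    (hkerX : ∀ b : B, (α ≫ β) b = 0 →
      FormalAmple.baseStalk f (g (i w)) b ∈ maximalIdeal (X.presheaf.stalk (g (i w))) ^ n)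
    (hkerY : ∀ c : C, β c = 0 →
      FormalAmple.baseStalk s (i w) c ∈ maximalIdeal (Y.presheaf.stalk (i w)) ^ n)
    (h : maximalIdeal (X.presheaf.stalk (g (i w))) ^ n ≤
      (maximalIdeal (Y.presheaf.stalk (i w)) ^ n).comap (g.stalkMap (i w)).hom) :
    Function.Bijective (Ideal.quotientMap (maximalIdeal (Y.presheaf.stalk (i w)) ^ n) (g.stalkMap (i w)).hom h) := by
  have hX : IsPullback (i ≫ g) t f (Spec.map (α ≫ β)) := by
    rw [Spec.map_comp]
    exact hT.paste_horiz hY
  haveI : IsClosedImmersion (Spec.map β) := IsClosedImmersion.spec_of_surjective β hβ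
  haveI : IsClosedImmersion i := MorphismProperty.of_isPullback hT.flip inferInstance
  haveI : IsClosedImmersion (Spec.map (α ≫ β)) := IsClosedImmersion.spec_of_surjective _ hαβ
  haveI : IsClosedImmersion (i ≫ g) := MorphismProperty.of_isPullback hX.flip inferInstance
  have hcomp : ∀ z, (i ≫ g).stalkMap w z = i.stalkMap w (g.stalkMap (i w) z) := fun z => by
    rw [Scheme.Hom.stalkMap_comp]
    rfl
  have hsX : Function.Surjective ((i ≫ g).stalkMap w) := (i ≫ g).stalkMap_surjective w
  have hkX : RingHom.ker ((i ≫ g).stalkMap w).hom ≤ maximalIdeal (X.presheaf.stalk (g (i w))) ^ n := by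
    refine (FormalAmple.ker_stalkMap_of_isPullback hX hαβ w).le.trans ?_
    exact Ideal.map_le_iff_le_comap.2 fun b hb => hkerX b hb
  have hkY : RingHom.ker (i.stalkMap w).hom ≤ maximalIdeal (Y.presheaf.stalk (i w)) ^ n := by
    refine (FormalAmple.ker_stalkMap_of_isPullback hT hβ w).le.trans ?_
    exact Ideal.map_le_iff_le_comap.2 fun b hb => hkerY b hb
  refine ⟨?_, fun z => ?_⟩
  · rw [injective_iff_map_eq_zero]
    intro a ha
    obtain ⟨x, rfl⟩ := Ideal.Quotient.mk_surjective a
    rw [Ideal.quotientMap_mk, Ideal.Quotient.eq_zero_iff_mem] at ha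
    rw [Ideal.Quotient.eq_zero_iff_mem]
    have h1 : i.stalkMap w (g.stalkMap (i w) x) ∈ maximalIdeal (T.presheaf.stalk w) ^ n := by
      refine Ideal.pow_right_mono ?_ n (show _ ∈ (maximalIdeal (Y.presheaf.stalk (i w))).map (i.stalkMap w).hom ^ n from
        (Ideal.map_pow (i.stalkMap w).hom _ n) ▸ Ideal.mem_map_of_mem _ ha)
      exact IsLocalRing.map_maximalIdeal_le _
    rw [← hcomp] at h1
    have h2 : maximalIdeal (T.presheaf.stalk w) = (maximalIdeal (X.presheaf.stalk (g (i w)))).map ((i ≫ g).stalkMap w).hom :=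
      (IsLocalRing.map_maximalIdeal_of_surjective _ hsX).symm
    rw [h2, ← Ideal.map_pow] at h1
    obtain ⟨y, hy, hyx⟩ := (Ideal.mem_map_iff_of_surjective _ hsX).1 h1
    have h3 : x - (show X.presheaf.stalk (g (i w)) from y) ∈ maximalIdeal (X.presheaf.stalk (g (i w))) ^ n := hkX (by
      rw [RingHom.mem_ker, map_sub, sub_eq_zero]
      exact hyx.symm)
    exact (Submodule.sub_mem_iff_left _ hy).1 h3
  · obtain ⟨y, rfl⟩ := Ideal.Quotient.mk_surjective z
    obtain ⟨x, hx⟩ := hsX (i.stalkMap w y)
    refine ⟨Ideal.Quotient.mk _ x, ?_⟩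
    rw [Ideal.quotientMap_mk, Ideal.Quotient.mk_eq_mk_iff_sub_mem]
    refine hkY ?_
    rw [RingHom.mem_ker, map_sub, sub_eq_zero]
    exact (hcomp x).symm.trans hx

/-- The kernel of the truncation of a completion. -/
theorem ker_evalₐ_le {A : Type u} [CommRing A] (I : Ideal A) (hI : I.FG) (n : ℕ) (c : AdicCompletion I A)
    (hc : AdicCompletion.evalₐ I n c = 0) : c ∈ (I ^ n).map (algebraMap A (AdicCompletion I A)) := by
  have h : (I ^ n : Ideal A) • (⊤ : Ideal A) = I ^ n := by simp
  have h0 : AdicCompletion.eval I A n c = 0 := by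
    rw [← AdicCompletion.factor_evalₐ_eq_eval I c h.ge, hc, map_zero]
  have h1 : c ∈ (I ^ n • ⊤ : Submodule A (AdicCompletion I A)) := by
    rw [AdicCompletion.pow_smul_top_eq_ker_eval hI]
    exact h0
  rw [Ideal.smul_top_eq_map] at h1
  exact h1

end Groth.Agent.CplStalkLib
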